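import Mathlib
import Cfsg.Agent.Lib.Helper50.FOT.Defs
import Cfsg.Agent.S3359

/-!
# FOT (S3999), package [SL25]

A nonsolvable Frobenius complement has exactly 24 elements of order 5 and `5 ∥ |C|`
(from the landed S3359).
-/

set_option autoImplicit false
open scoped Pointwise

namespace Cfsg.Agent.Lib.Helper73.FOT

open Cfsg.Agent.Lib.Helper50.FOT

universe u

set_option maxRecDepth 100000 in
theorem sl25_card_h73 : Nat.card (Matrix.SpecialLinearGroup (Fin 2) (ZMod 5)) = 120 := by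
  rw [Nat.card_eq_fintype_card]; decide +kernel

set_option maxRecDepth 100000 in
theorem sl25_five_h73 :
    Nat.card {g : Matrix.SpecialLinearGroup (Fin 2) (ZMod 5) // g ^ 5 = 1 ∧ g ≠ 1} = 24 := by
  rw [Nat.card_eq_fintype_card]; decide +kernel

/-- transport of a Frobenius complement to a group living in `Type`. -/
theorem frob_transport_h73 {X : Type u} [Group X] [Finite X] (C : Subgroup X)
    (hC : Cfsg.IsFrobeniusComplement C) :
    ∃ (L : Type) (_ : Group L) (_ : Finite L) (H : Subgroup L),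
      Cfsg.IsFrobeniusComplement H ∧ Nonempty (↥C ≃* ↥H) := by
  classical
  let φ : Shrink.{0} X ≃* X := Shrink.mulEquiv
  have hfin : Finite (Shrink.{0} X) := Finite.of_equiv X (equivShrink.{0} X)
  obtain ⟨h1, h2, h3⟩ := hC
  refine ⟨Shrink.{0} X, inferInstance, hfin, C.comap φ.toMonoidHom, ⟨?_, ?_, ?_⟩, ⟨?_⟩⟩
  · intro h
    apply h1
    rw [Subgroup.eq_bot_iff_forall]
    intro c hc
    have hm : φ.symm c ∈ C.comap φ.toMonoidHom := by
      show φ (φ.symm c) ∈ C
      simpa using hc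
    rw [h, Subgroup.mem_bot] at hm
    have := congrArg φ hm
    simpa using this
  · intro h
    apply h2
    rw [eq_top_iff]
    intro x _
    have hm : φ.symm x ∈ C.comap φ.toMonoidHom := by rw [h]; trivial
    have : φ (φ.symm x) ∈ C := hm
    simpa using this
  · intro g hg
    rw [Subgroup.eq_bot_iff_forall]
    intro z hz
    obtain ⟨hz1, hz2⟩ := Subgroup.mem_inf.mp hz
    have hgC : φ g ∉ C := hg
    have key := h3 (φ g) hgC
    have hz1' : φ z ∈ C := hz1
    have hz2' : φ z ∈ MulAut.conj (φ g) • C := by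
      rw [Subgroup.mem_pointwise_smul_iff_inv_smul_mem] at hz2 ⊢
      have h4 : φ ((MulAut.conj g)⁻¹ • z) ∈ C := hz2
      have h5 : (MulAut.conj (φ g))⁻¹ • φ z = φ ((MulAut.conj g)⁻¹ • z) := by
        simp [MulAut.smul_def]
      rw [h5]; exact h4
    have : φ z ∈ C ⊓ MulAut.conj (φ g) • C := ⟨hz1', hz2'⟩
    rw [key, Subgroup.mem_bot] at this
    exact (MulEquiv.map_eq_one_iff φ).mp this
  · exact
      { toFun := fun c => ⟨φ.symm c.1, by
          show φ (φ.symm c.1) ∈ C
          simp⟩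
        invFun := fun h => ⟨φ h.1, h.2⟩
        left_inv := fun c => Subtype.ext (by simp)
        right_inv := fun h => Subtype.ext (by simp)
        map_mul' := fun a b => Subtype.ext (by
          show φ.symm (a.1 * b.1) = φ.symm a.1 * φ.symm b.1
          exact map_mul φ.symm a.1 b.1) }

/-- elements of the join of two elementwise commuting subgroups are products. -/
theorem mem_sup_comm_h73 {G : Type u} [Group G] (S M : Subgroup G)
    (hcomm : ∀ s ∈ S, ∀ x ∈ M, s * x = x * s) {y : G} (hy : y ∈ S ⊔ M) :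
    ∃ s ∈ S, ∃ x ∈ M, y = s * x := by
  have hcl : S ⊔ M = Subgroup.closure ((S : Set G) ∪ M) := by
    rw [Subgroup.closure_union, Subgroup.closure_eq, Subgroup.closure_eq]
  rw [hcl] at hy
  induction hy using Subgroup.closure_induction with
  | mem z hz =>
    rcases hz with hz | hz
    · exact ⟨z, hz, 1, M.one_mem, by simp⟩
    · exact ⟨1, S.one_mem, z, hz, by simp⟩
  | one => exact ⟨1, S.one_mem, 1, M.one_mem, by simp⟩
  | mul a b _ _ iha ihb =>
    obtain ⟨s, hs, x, hx, rfl⟩ := iha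
    obtain ⟨s', hs', x', hx', rfl⟩ := ihb
    refine ⟨s * s', S.mul_mem hs hs', x * x', M.mul_mem hx hx', ?_⟩
    calc s * x * (s' * x') = s * (x * s') * x' := by group
      _ = s * (s' * x) * x' := by rw [hcomm s' hs' x hx]
      _ = s * s' * (x * x') := by group
  | inv a _ iha =>
    obtain ⟨s, hs, x, hx, rfl⟩ := iha
    refine ⟨s⁻¹, S.inv_mem hs, x⁻¹, M.inv_mem hx, ?_⟩
    rw [mul_inv_rev, hcomm s⁻¹ (S.inv_mem hs) x⁻¹ (M.inv_mem hx)]

/-- [SL25] -/
theorem pkgSL25 : PkgSL25.{u} := by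
  intro X _ _ C hC hns
  classical
  have : Fact (Nat.Prime 5) := ⟨by norm_num⟩
  obtain ⟨G₀, hG₀n, hidx, S, M, hsup, hinf, hcomm, ⟨ψ⟩, -, hcop⟩ :=
    Cfsg.Agent.S3359.result (G := ↥C) hns (frob_transport_h73 C hC)
  have hS : Nat.card S = 120 := by
    rw [Nat.card_congr ψ.toEquiv, sl25_card_h73]
  have hSle : S ≤ G₀ := by rw [← hsup]; exact le_sup_left
  have hMle : M ≤ G₀ := by rw [← hsup]; exact le_sup_right
  have hdec : ∀ y ∈ G₀, ∃ s ∈ S, ∃ x ∈ M, y = s * x := fun y hy =>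
    mem_sup_comm_h73 S M hcomm (by rw [hsup]; exact hy)
  -- trivial intersection
  have hdisj : ∀ z, z ∈ S → z ∈ M → z = 1 := fun z h1 h2 => by
    have : z ∈ S ⊓ M := ⟨h1, h2⟩
    rw [hinf] at this
    exact Subgroup.mem_bot.mp this
  -- card G₀ = 120 * card M
  have hG₀ : Nat.card G₀ = 120 * Nat.card M := by
    rw [← hS, ← Nat.card_prod]
    symm
    refine Nat.card_eq_of_bijective
      (fun t : S × M => (⟨t.1.1 * t.2.1, G₀.mul_mem (hSle t.1.2) (hMle t.2.2)⟩ : G₀)) ⟨?_, ?_⟩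
    · rintro ⟨⟨s, hs⟩, ⟨x, hx⟩⟩ ⟨⟨s', hs'⟩, ⟨x', hx'⟩⟩ hEq
      have h1 : s * x = s' * x' := congrArg Subtype.val hEq
      have h2 : s'⁻¹ * s = x' * x⁻¹ := by
        calc s'⁻¹ * s = s'⁻¹ * (s * x) * x⁻¹ := by group
          _ = s'⁻¹ * (s' * x') * x⁻¹ := by rw [h1]
          _ = x' * x⁻¹ := by group
      have h3 : s'⁻¹ * s = 1 := hdisj _ (S.mul_mem (S.inv_mem hs') hs)
        (by rw [h2]; exact M.mul_mem hx' (M.inv_mem hx))
      have h4 : x' * x⁻¹ = 1 := by rw [← h2]; exact h3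
      have e1 : s = s' := by
        calc s = s' * (s'⁻¹ * s) := by group
          _ = s' := by rw [h3, mul_one]
      have e2 : x = x' := by
        calc x = (x' * x⁻¹)⁻¹ * x' := by group
          _ = x' := by rw [h4]; simp
      subst e1 e2
      rfl
    · rintro ⟨y, hy⟩
      obtain ⟨s, hs, x, hx, rfl⟩ := hdec y hy
      exact ⟨(⟨s, hs⟩, ⟨x, hx⟩), rfl⟩
  have hCcard : Nat.card C = G₀.index * (120 * Nat.card M) := by
    rw [← hG₀]; exact (Subgroup.index_mul_card G₀).symm
  have h5M : ¬ 5 ∣ Nat.card M := by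
    intro h
    have h1 : 5 ∣ Nat.gcd (Nat.card M) 30 := Nat.dvd_gcd h (by norm_num)
    rw [Nat.Coprime.gcd_eq_one hcop] at h1
    omega
  -- elements of order 5 lie in `S`
  have hmemS : ∀ y : C, orderOf y = 5 → y ∈ S := by
    intro y hy
    have hy5 : y ^ 5 = 1 := by rw [← hy]; exact pow_orderOf_eq_one y
    have hyG : y ∈ G₀ := by
      rcases hidx with h | h
      · rw [Subgroup.index_eq_one.mp h]; trivial
      · have h2 : y ^ 2 ∈ G₀ := Subgroup.sq_mem_of_index_two h y
        have h6 : y = (y ^ 2) ^ 3 := by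
          rw [← pow_mul]
          calc y = y ^ 5 * y := by rw [hy5, one_mul]
            _ = y ^ (2 * 3) := by rw [← pow_succ]
        rw [h6]; exact G₀.pow_mem h2 3
    obtain ⟨s, hs, x, hx, rfl⟩ := hdec y hyG
    have hc : Commute s x := hcomm s hs x hx
    have h1 : s ^ 5 * x ^ 5 = 1 := by rw [← hc.mul_pow]; exact hy5
    have h2 : x ^ 5 = 1 := by
      have h3 : x ^ 5 = (s ^ 5)⁻¹ := by
        calc x ^ 5 = (s ^ 5)⁻¹ * (s ^ 5 * x ^ 5) := by group
          _ = (s ^ 5)⁻¹ := by rw [h1, mul_one]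
      exact hdisj _ (by rw [h3]; exact S.inv_mem (S.pow_mem hs 5)) (M.pow_mem hx 5)
    have h4 : orderOf x ∣ 5 := orderOf_dvd_of_pow_eq_one h2
    have h5 : orderOf x ∣ Nat.card M := by
      have := orderOf_dvd_natCard (⟨x, hx⟩ : M)
      rwa [Subgroup.orderOf_mk] at this
    have h6 : orderOf x = 1 := by
      rcases (Nat.dvd_prime (by norm_num : Nat.Prime 5)).mp h4 with h | h
      · exact h
      · exact absurd (h ▸ h5) h5M
    rw [orderOf_eq_one_iff.mp h6, mul_one]
    exact hs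
  refine ⟨?_, ?_, ?_⟩
  · rw [← sl25_five_h73]
    symm
    refine Nat.card_eq_of_bijective
      (fun g : {g : Matrix.SpecialLinearGroup (Fin 2) (ZMod 5) // g ^ 5 = 1 ∧ g ≠ 1} =>
        (⟨(ψ.symm g.1).1, by
          rw [Subgroup.orderOf_coe, MulEquiv.orderOf_eq]
          exact orderOf_eq_prime_iff.mpr g.2⟩ : {y : C // orderOf y = 5})) ⟨?_, ?_⟩
    · intro g g' hEq
      have h1 : (ψ.symm g.1).1 = (ψ.symm g'.1).1 :=
        congrArg (fun t : {y : C // orderOf y = 5} => t.1) hEq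
      exact Subtype.ext (ψ.symm.injective (Subtype.ext h1))
    · rintro ⟨y, hy⟩
      have hyS := hmemS y hy
      refine ⟨⟨ψ ⟨y, hyS⟩, ?_⟩, ?_⟩
      · apply orderOf_eq_prime_iff.mp
        rw [MulEquiv.orderOf_eq, Subgroup.orderOf_mk]
        exact hy
      · apply Subtype.ext
        simp
  · rw [hCcard]
    exact Dvd.dvd.mul_left (Dvd.dvd.mul_right (by norm_num) _) _
  · rw [hCcard]
    intro h25
    apply h5M
    rcases hidx with h | h
    · rw [h] at h25
      have h1 : 5 * 5 ∣ 5 * (24 * Nat.card M) := by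
        have e : 5 * (24 * Nat.card M) = 1 * (120 * Nat.card M) := by ring
        rw [e]; exact h25
      have h2 : 5 ∣ 24 * Nat.card M := Nat.dvd_of_mul_dvd_mul_left (by norm_num) h1
      exact (Nat.Coprime.dvd_of_dvd_mul_left (by norm_num) h2)
    · rw [h] at h25
      have h1 : 5 * 5 ∣ 5 * (48 * Nat.card M) := by
        have e : 5 * (48 * Nat.card M) = 2 * (120 * Nat.card M) := by ring
        rw [e]; exact h25
      have h2 : 5 ∣ 48 * Nat.card M := Nat.dvd_of_mul_dvd_mul_left (by norm_num) h1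
      exact (Nat.Coprime.dvd_of_dvd_mul_left (by norm_num) h2)

end Cfsg.Agent.Lib.Helper73.FOT
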